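import Cfsg.Agent.H6.CT.Basic
import Cfsg.Agent.H6.GroupLemmas

/-!
# The coset action on the normaliser of an involution centraliser
-/

set_option autoImplicit false

open MulAction

namespace Cfsg.Agent.H6.CT

variable {G : Type*} [Group G]

/-- The points. -/
abbrev Pt (t : G) : Type _ := G ⧸ norA t

/-- The base point. -/
abbrev o (t : G) : Pt t := ((1 : G) : G ⧸ norA t)

lemma smul_o_eq_iff {t g : G} : g • o t = o t ↔ g ∈ norA t := by
  rw [o, MulAction.Quotient.smul_coe, QuotientGroup.eq, smul_eq_mul, mul_one, mul_one,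
    Subgroup.inv_mem_iff]

lemma conj_smul_eq_iff {t : G} (g z : G) {x : Pt t} : (g⁻¹ * z * g) • x = x ↔ z • g • x = g • x := by
  rw [mul_smul, mul_smul, inv_smul_eq_iff]

/-- The involutions swapping two points. -/
abbrev swapSet {t : G} (x y : Pt t) : Set G := {u | orderOf u = 2 ∧ u • x = y}

lemma smul_smul_of_inv {t u : G} (hu : orderOf u = 2) (x : Pt t) : u • u • x = x := by
  rw [← mul_smul, ← sq, ← hu, pow_orderOf_eq_one, one_smul]

lemma inv_eq_self_of_inv {u : G} (hu : orderOf u = 2) : u⁻¹ = u :=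
  inv_eq_of_mul_eq_one_right (by rw [← sq, ← hu, pow_orderOf_eq_one])

variable [Finite G] {t : G} (S : Hyp G t)
include S

lemma Hyp.inv_fix_iff {u : G} (hu : orderOf u = 2) : u • o t = o t ↔ u ∈ cenA t :=
  ⟨fun h => S.inv_mem hu (smul_o_eq_iff.1 h), fun h => smul_o_eq_iff.2 (S.cen_le_nor h)⟩

lemma Hyp.free_o {p : Pt t} (hp : p ≠ o t) {c : G} (hc : c ∈ cenA t) (hcp : c • p = p) : c = 1 := by
  induction p using QuotientGroup.induction_on with
  | H g =>
    have hg : g ∉ norA t := fun h => hp (QuotientGroup.eq.2 (by simpa using h))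
    refine S.inter_conj hg hc (smul_o_eq_iff.1 ?_)
    rw [conj_smul_eq_iff, o, MulAction.Quotient.smul_coe, smul_eq_mul, mul_one]
    exact hcp

lemma Hyp.card_stab_o_le {p : Pt t} (hp : p ≠ o t) :
    Nat.card (stabilizer G (o t) ⊓ stabilizer G p : Subgroup G) ≤ S.r := by
  classical
  set D : Subgroup G := stabilizer G (o t) ⊓ stabilizer G p
  have hidx : ((cenA t).subgroupOf (norA t)).index = S.r := by
    have h := ((cenA t).subgroupOf (norA t)).card_mul_index
    rw [Nat.card_congr (Subgroup.subgroupOfEquivOfLe S.cen_le_nor).toEquiv, S.card_nor] at h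
    exact Nat.eq_of_mul_eq_mul_left Nat.card_pos h
  let f : D → norA t ⧸ (cenA t).subgroupOf (norA t) := fun d =>
    QuotientGroup.mk ⟨d, smul_o_eq_iff.1 d.2.1⟩
  refine le_of_le_of_eq (Nat.card_le_card_of_injective f fun d e h => ?_) hidx
  have h1 : (d : G)⁻¹ * e ∈ cenA t := Subgroup.mem_subgroupOf.1 ((QuotientGroup.eq (s := (cenA t).subgroupOf (norA t))).1 h)
  have h2 : ((d : G)⁻¹ * e) • p = p := by
    rw [mul_smul, e.2.2, inv_smul_eq_iff]
    exact d.2.2.symm
  exact Subtype.ext (inv_mul_eq_one.1 (S.free_o hp h1 h2))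

lemma Hyp.mul_mem_pair {p : Pt t} {u v : G} (hu : u ∈ swapSet (o t) p) (hv : v ∈ swapSet (o t) p) :
    u * v ∈ stabilizer G (o t) ⊓ stabilizer G p := by
  have h1 : u • p = o t := by rw [← hu.2, smul_smul_of_inv hu.1]
  have h2 : v • p = o t := by rw [← hv.2, smul_smul_of_inv hv.1]
  exact ⟨mem_stabilizer_iff.2 (by rw [mul_smul, hv.2, h1]),
    mem_stabilizer_iff.2 (by rw [mul_smul, h2, hu.2])⟩

/-- Every non-trivial coset carries `r` involutions, inverting the two-point stabiliser of order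
`r`. -/
lemma Hyp.coset_base {p : Pt t} (hp : p ≠ o t) :
    Nat.card (stabilizer G (o t) ⊓ stabilizer G p : Subgroup G) = S.r ∧
      Nat.card (swapSet (o t) p) = S.r ∧
      ∀ u ∈ swapSet (o t) p, ∀ d ∈ stabilizer G (o t) ⊓ stabilizer G p, u * d * u⁻¹ = d⁻¹ := by
  classical
  have := Fintype.ofFinite G
  have := Fintype.ofFinite (Pt t)
  have hle : ∀ q : Pt t, q ≠ o t → Nat.card (swapSet (o t) q) ≤ S.r := by
    intro q hq
    rcases isEmpty_or_nonempty (swapSet (o t) q) with h | ⟨⟨u, hu⟩⟩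
    · simp
    · refine le_trans (Nat.card_le_card_of_injective
        (fun v : swapSet (o t) q => (⟨u * v, S.mul_mem_pair hu v.2⟩ :
          (stabilizer G (o t) ⊓ stabilizer G q : Subgroup G))) fun v w h => ?_) (S.card_stab_o_le hq)
      exact Subtype.ext (mul_left_cancel (congrArg Subtype.val h))
  -- count the involutions outside `A`
  set I : Finset G := Finset.univ.filter fun u => orderOf u = 2
  have hI : I.card * Nat.card (cenA t) = Nat.card G := by
    let f : G → {u : G // orderOf u = 2} := fun g => ⟨g * t * g⁻¹, by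
      rw [show orderOf (g * t * g⁻¹) = orderOf t from
        orderOf_injective (MulAut.conj g).toMonoidHom (MulAut.conj g).injective t, S.inv]⟩
    have hf : ∀ u, Nat.card {g : G // f g = u} = Nat.card (cenA t) := by
      rintro ⟨u, huo⟩
      obtain ⟨c, hc⟩ := isConj_iff.1 (S.isConj_inv huo)
      refine Nat.card_congr
        { toFun := fun g => ⟨c⁻¹ * g.1, mem_cent_singleton.2 ?_⟩
          invFun := fun x => ⟨c * x.1, Subtype.ext ?_⟩
          left_inv := fun g => by simp
          right_inv := fun x => by simp }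
      · have h : g.1 * t * g.1⁻¹ = u := congrArg Subtype.val g.2
        have h' : c * t * c⁻¹ = g.1 * t * g.1⁻¹ := hc.trans h.symm
        calc t * (c⁻¹ * g.1) = c⁻¹ * (c * t * c⁻¹) * g.1 := by group
          _ = c⁻¹ * (g.1 * t * g.1⁻¹) * g.1 := by rw [h']
          _ = c⁻¹ * g.1 * t := by group
      · show c * x.1 * t * (c * x.1)⁻¹ = u
        rw [mul_assoc c, ← mem_cent_singleton.1 x.2, ← hc]
        group
    rw [← Nat.card_congr (Equiv.sigmaFiberEquiv f), Nat.card_sigma,
      Finset.sum_congr rfl fun u _ => hf u, Finset.sum_const, smul_eq_mul, Finset.card_univ,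
      Fintype.card_subtype]
  have hcardI : I.card = S.r * Fintype.card (Pt t) := by
    apply Nat.eq_of_mul_eq_mul_right (Nat.card_pos (α := cenA t))
    rw [hI, ← Nat.card_eq_fintype_card, Subgroup.card_eq_card_quotient_mul_card_subgroup (norA t),
      S.card_nor]
    ring
  have hsplit : I.card = ∑ q : Pt t, Nat.card (swapSet (o t) q) := by
    rw [Finset.card_eq_sum_card_fiberwise (f := fun u => u • o t) (t := Finset.univ)
      (fun u _ => Finset.mem_univ _)]
    refine Finset.sum_congr rfl fun q _ => ?_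
    rw [Nat.card_eq_fintype_card, ← Set.toFinset_card]
    congr 1
    ext u
    simp [I]
  have hbase : Nat.card (swapSet (o t) (o t)) = S.r := by
    refine Nat.card_congr (Equiv.subtypeEquivRight fun u => ?_)
    exact ⟨fun h => ⟨(S.inv_fix_iff h.1).1 h.2, h.1⟩, fun h => ⟨h.2, (S.inv_fix_iff h.2).2 h.1⟩⟩
  have hall : ∀ q ∈ (Finset.univ : Finset (Pt t)).erase (o t),
      Nat.card (swapSet (o t) q) = S.r := by
    refine (Finset.sum_eq_sum_iff_of_le fun q hq => hle q (Finset.mem_erase.1 hq).1).1 ?_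
    have h := Finset.add_sum_erase (Finset.univ : Finset (Pt t))
      (fun q => Nat.card (swapSet (o t) q)) (Finset.mem_univ (o t))
    rw [hbase, ← hsplit, hcardI] at h
    rw [Finset.sum_const, Finset.card_erase_of_mem (Finset.mem_univ _), Finset.card_univ, smul_eq_mul]
    have hpos : 0 < Fintype.card (Pt t) := Fintype.card_pos
    obtain ⟨m, hm⟩ : ∃ m, Fintype.card (Pt t) = m + 1 := ⟨_, (Nat.sub_add_cancel hpos).symm⟩
    rw [hm] at h ⊢
    rw [Nat.add_sub_cancel]
    nlinarith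
  have hswap : Nat.card (swapSet (o t) p) = S.r :=
    hall p (Finset.mem_erase.2 ⟨hp, Finset.mem_univ p⟩)
  have hinj : ∀ u : swapSet (o t) p, Function.Injective (fun v : swapSet (o t) p =>
      (⟨u.1 * v.1, S.mul_mem_pair u.2 v.2⟩ : (stabilizer G (o t) ⊓ stabilizer G p : Subgroup G))) :=
    fun u v w h => Subtype.ext (mul_left_cancel (congrArg Subtype.val h))
  obtain ⟨u₀⟩ : Nonempty (swapSet (o t) p) :=
    (Nat.card_pos_iff.1 (by rw [hswap]; exact S.r_pos)).1
  have hcard : Nat.card (stabilizer G (o t) ⊓ stabilizer G p : Subgroup G) = S.r :=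
    le_antisymm (S.card_stab_o_le hp) (hswap ▸ Nat.card_le_card_of_injective _ (hinj u₀))
  refine ⟨hcard, hswap, fun u hu d hd => ?_⟩
  obtain ⟨v, hv⟩ := ((hinj ⟨u, hu⟩).bijective_of_nat_card_le (by rw [hcard, hswap])).2 ⟨d, hd⟩
  have hd' : u * v.1 = d := congrArg Subtype.val hv
  rw [← hd', _root_.mul_inv_rev, inv_eq_self_of_inv v.2.1, inv_eq_self_of_inv hu.1, ← mul_assoc,
    show u * u = 1 by rw [← sq, ← hu.1, pow_orderOf_eq_one], one_mul]

/-- The same for an arbitrary pair of points. -/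
lemma Hyp.coset_pair {x y : Pt t} (hxy : x ≠ y) :
    Nat.card (stabilizer G x ⊓ stabilizer G y : Subgroup G) = S.r ∧
      Nat.card (swapSet x y) = S.r ∧
      ∀ u ∈ swapSet x y, ∀ d ∈ stabilizer G x ⊓ stabilizer G y, u * d * u⁻¹ = d⁻¹ := by
  obtain ⟨g, rfl⟩ := MulAction.exists_smul_eq G (o t) x
  set p := g⁻¹ • y
  have hy : y = g • p := (smul_inv_smul g y).symm
  rw [hy] at hxy ⊢
  obtain ⟨h1, h2, h3⟩ := S.coset_base (p := p) fun e => hxy (by rw [e])
  have hord : ∀ u : G, orderOf (g⁻¹ * u * g) = orderOf u := fun u => by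
    simpa using orderOf_injective (MulAut.conj g⁻¹).toMonoidHom (MulAut.conj g⁻¹).injective u
  have hmem : ∀ d : G, d ∈ stabilizer G (g • o t) ⊓ stabilizer G (g • p) ↔
      g⁻¹ * d * g ∈ stabilizer G (o t) ⊓ stabilizer G p := fun d => by
    simp only [Subgroup.mem_inf, mem_stabilizer_iff, conj_smul_eq_iff]
  have hsw : ∀ u : G, u ∈ swapSet (g • o t) (g • p) ↔ g⁻¹ * u * g ∈ swapSet (o t) p := fun u => by
    simp only [swapSet, Set.mem_setOf_eq, hord, mul_smul, inv_smul_eq_iff]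
  refine ⟨?_, ?_, fun u hu d hd => ?_⟩
  · rw [← h1]
    exact Nat.card_congr
      { toFun := fun d => ⟨g⁻¹ * d.1 * g, (hmem _).1 d.2⟩
        invFun := fun d => ⟨g * d.1 * g⁻¹, (hmem _).2 (by simpa [mul_assoc] using d.2)⟩
        left_inv := fun d => Subtype.ext (by simp [mul_assoc])
        right_inv := fun d => Subtype.ext (by simp [mul_assoc]) }
  · rw [← h2]
    exact Nat.card_congr
      { toFun := fun d => ⟨g⁻¹ * d.1 * g, (hsw _).1 d.2⟩
        invFun := fun d => ⟨g * d.1 * g⁻¹, (hsw _).2 (by simpa [mul_assoc] using d.2)⟩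
        left_inv := fun d => Subtype.ext (by simp [mul_assoc])
        right_inv := fun d => Subtype.ext (by simp [mul_assoc]) }
  · have h := h3 _ ((hsw u).1 hu) _ ((hmem d).1 hd)
    calc u * d * u⁻¹ = g * ((g⁻¹ * u * g) * (g⁻¹ * d * g) * (g⁻¹ * u * g)⁻¹) * g⁻¹ := by group
      _ = g * (g⁻¹ * d * g)⁻¹ * g⁻¹ := by rw [h]
      _ = d⁻¹ := by group

/-- Two-point stabilisers have order above one. -/
lemma Hyp.two_le_r : 2 ≤ S.r := by
  by_contra hr
  have hr1 : S.r = 1 := by have := S.r_pos; omega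
  have := S.simple
  have hA : norA t ≤ cenA t := fun g hg => by simpa [hr1] using S.pow_r_mem hg
  obtain ⟨T, hT⟩ : ∃ T : Sylow 2 G, t ∈ (T : Subgroup G) := by
    have hp : IsPGroup 2 (Subgroup.zpowers t) :=
      IsPGroup.of_card (n := 1) (by rw [Nat.card_zpowers, S.inv, pow_one])
    obtain ⟨T, h⟩ := hp.exists_le_sylow
    exact ⟨T, h (Subgroup.mem_zpowers t)⟩
  have := Fact.mk Nat.prime_two
  have : Nontrivial (T : Subgroup G) :=
    ⟨⟨t, hT⟩, 1, fun e => S.ne_one (congrArg Subtype.val e)⟩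
  have hz := T.2.center_nontrivial
  obtain ⟨⟨⟨z, hzT⟩, hzc⟩, hz1⟩ := exists_ne (1 : Subgroup.center (T : Subgroup G))
  have hz1' : z ≠ 1 := fun e => hz1 (Subtype.ext (Subtype.ext e))
  have hzA : z ∈ cenA t := mem_cent_singleton.2
    (congrArg Subtype.val (Subgroup.mem_center_iff.1 hzc ⟨t, hT⟩))
  have hTA : (T : Subgroup G) ≤ cenA t := fun y hy => by
    rw [← S.cen_eq hzA hz1']
    exact mem_cent_singleton.2 (congrArg Subtype.val (Subgroup.mem_center_iff.1 hzc ⟨y, hy⟩)).symm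
  have hNC : Subgroup.normalizer ((T : Subgroup G) : Set G) ≤
      Subgroup.centralizer ((T : Subgroup G) : Set G) := fun y hy => by
    have hyN : y ∈ norA t := S.mem_nor S.self_mem S.ne_one
      (hTA ((Subgroup.mem_normalizer_iff.1 hy t).1 hT))
    exact Subgroup.mem_centralizer_iff.2 fun z hz => S.cen_comm (hTA hz) (hA hyN)
  have hc := MonoidHom.ker_transferSylow_isComplement' T hNC
  set M := (MonoidHom.transferSylow T hNC).ker
  have hM : M.Normal := MonoidHom.normal_ker _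
  rcases hM.eq_bot_or_eq_top with e | e
  · rw [e] at hc
    have hT' : (T : Subgroup G) = ⊤ := by
      have := hc.card_mul
      rw [Subgroup.card_bot, one_mul] at this
      exact Subgroup.eq_top_of_card_eq _ this
    exact S.nor_ne_top (eq_top_iff.2 fun g _ =>
      S.cen_le_nor (hTA (hT' ▸ Subgroup.mem_top g)))
  · rw [e] at hc
    have hT' : (T : Subgroup G) = ⊥ := by
      have := hc.card_mul
      rw [Subgroup.card_top] at this
      refine Subgroup.card_eq_one.1 (Nat.eq_of_mul_eq_mul_left (Nat.card_pos (α := G)) ?_)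
      rw [mul_one]; exact this
    exact S.ne_one (Subgroup.mem_bot.1 (hT' ▸ hT))

/-- A non-trivial element fixing two points fixes no third one. -/
lemma Hyp.fix_two {k : G} (hk : k ≠ 1) {x₀ y₀ : Pt t} (hxy₀ : x₀ ≠ y₀) (hx₀ : k • x₀ = x₀)
    (hy₀ : k • y₀ = y₀) {z : Pt t} (hz : k • z = z) : z = x₀ ∨ z = y₀ := by
  classical
  set K := stabilizer G x₀ ⊓ stabilizer G y₀
  have hkK : k ∈ K := ⟨hx₀, hy₀⟩
  have hcardK : Nat.card K = S.r := (S.coset_pair hxy₀).1
  obtain ⟨u₀, hu₀⟩ : (swapSet x₀ y₀).Nonempty := by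
    obtain ⟨⟨u, hu⟩⟩ := (Nat.card_pos_iff.1 (by rw [(S.coset_pair hxy₀).2.1]; exact S.r_pos :
      0 < Nat.card (swapSet x₀ y₀))).1
    exact ⟨u, hu⟩
  have hinv₀ := (S.coset_pair hxy₀).2.2 u₀ hu₀
  have hcommK : ∀ c ∈ K, ∀ d ∈ K, c * d = d * c := fun c hc d hd => by
    have e : (c * d)⁻¹ = c⁻¹ * d⁻¹ := by
      rw [← hinv₀ _ (mul_mem hc hd), ← hinv₀ c hc, ← hinv₀ d hd]
      group
    rw [_root_.mul_inv_rev] at e
    have := congrArg (·⁻¹) e
    simpa using this
  have hkk : k * k ≠ 1 := fun e => hk (by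
    have h1 : k ^ 2 = 1 := by rw [sq, e]
    have h2 : k ^ S.r = 1 := by
      rw [← hcardK]
      exact orderOf_dvd_iff_pow_eq_one.1 (Subgroup.orderOf_dvd_natCard _ hkK)
    rw [← Nat.div_add_mod S.r 2, S.r_odd, pow_succ, pow_mul, h1, one_pow, one_mul] at h2
    exact h2)
  set B := cenA k
  have hKB : K ≤ B := fun c hc => mem_cent_singleton.2 (hcommK k hkK c hc)
  have hBcomm : ∀ {c d : G}, c ∈ B → d ∈ B → c * d = d * c := fun hc hd => cent_comm S.ct hk hc hd
  set F : Set (Pt t) := {q | ∀ c ∈ K, c • q = q}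
  have hx₀F : x₀ ∈ F := fun c hc => hc.1
  have hy₀F : y₀ ∈ F := fun c hc => hc.2
  have hBF : ∀ c ∈ B, ∀ q ∈ F, c • q ∈ F := fun c hc q hq d hd => by
    rw [smul_smul, ← hBcomm hc (hKB hd), mul_smul, hq d hd]
  -- `z` is fixed by `K`
  have hzF : z ∈ F := by
    by_cases hzx : z = x₀
    · exact hzx ▸ hx₀F
    intro c hc
    have hK' : Nat.card (stabilizer G x₀ ⊓ stabilizer G z : Subgroup G) = S.r :=
      (S.coset_pair (Ne.symm hzx)).1
    by_contra hcz
    -- both stabilisers centralise `k`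
    obtain ⟨⟨u, hu⟩⟩ := (Nat.card_pos_iff.1 (by rw [(S.coset_pair (Ne.symm hzx)).2.1]; exact S.r_pos :
      0 < Nat.card (swapSet x₀ z))).1
    have hinv := (S.coset_pair (Ne.symm hzx)).2.2 u hu
    have hcomm' : ∀ d ∈ stabilizer G x₀ ⊓ stabilizer G z, d * k = k * d := fun d hd => by
      have hk' : k ∈ stabilizer G x₀ ⊓ stabilizer G z := ⟨hx₀, hz⟩
      have e : (d * k)⁻¹ = d⁻¹ * k⁻¹ := by
        rw [← hinv _ (mul_mem hd hk'), ← hinv d hd, ← hinv k hk']
        group
      rw [_root_.mul_inv_rev] at e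
      have := congrArg (·⁻¹) e
      simpa using this
    have hle : Nat.card (stabilizer G x₀ ⊓ B : Subgroup G) ≤ S.r := by
      obtain ⟨g, hg⟩ := MulAction.exists_smul_eq G (o t) x₀
      have hne : g⁻¹ • y₀ ≠ o t := fun e => hxy₀ (by rw [← hg, ← e, smul_inv_smul])
      let f : (stabilizer G x₀ ⊓ B : Subgroup G) →
          norA t ⧸ (cenA t).subgroupOf (norA t) := fun d =>
        QuotientGroup.mk ⟨g⁻¹ * d.1 * g, smul_o_eq_iff.1 ((conj_smul_eq_iff g d.1).2 (by
          rw [hg]; exact d.2.1))⟩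
      have hidx : ((cenA t).subgroupOf (norA t)).index = S.r := by
        have h := ((cenA t).subgroupOf (norA t)).card_mul_index
        rw [Nat.card_congr (Subgroup.subgroupOfEquivOfLe S.cen_le_nor).toEquiv, S.card_nor] at h
        exact Nat.eq_of_mul_eq_mul_left Nat.card_pos h
      refine le_of_le_of_eq (Nat.card_le_card_of_injective f fun d e h => ?_) hidx
      have h1 : (g⁻¹ * d.1 * g)⁻¹ * (g⁻¹ * e.1 * g) ∈ cenA t := Subgroup.mem_subgroupOf.1 ((QuotientGroup.eq (s := (cenA t).subgroupOf (norA t))).1 h)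
      rw [show (g⁻¹ * d.1 * g)⁻¹ * (g⁻¹ * e.1 * g) = g⁻¹ * (d.1⁻¹ * e.1) * g by group] at h1
      by_contra hde
      have hne1 : d.1⁻¹ * e.1 ≠ 1 := fun e' => hde (Subtype.ext (inv_mul_eq_one.1 e'))
      have hne2 : g⁻¹ * (d.1⁻¹ * e.1) * g ≠ 1 := fun e' => hne1 (by
        simpa [mul_assoc] using congrArg (fun w => g * w * g⁻¹) e')
      have hkA : g⁻¹ * k * g ∈ cenA t := by
        rw [← S.cen_eq h1 hne2, mem_cent_singleton]
        have hB' : d.1⁻¹ * e.1 ∈ B := mul_mem (InvMemClass.inv_mem d.2.2) e.2.2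
        calc g⁻¹ * (d.1⁻¹ * e.1) * g * (g⁻¹ * k * g) = g⁻¹ * ((d.1⁻¹ * e.1) * k) * g := by group
          _ = g⁻¹ * (k * (d.1⁻¹ * e.1)) * g := by rw [mem_cent_singleton.1 hB']
          _ = g⁻¹ * k * g * (g⁻¹ * (d.1⁻¹ * e.1) * g) := by group
      have h3 := S.free_o hne hkA ((conj_smul_eq_iff g k).2 (by rw [smul_inv_smul, hy₀]))
      exact hk (by simpa [mul_assoc] using congrArg (fun w => g * w * g⁻¹) h3)
    have hsub1 : K ≤ stabilizer G x₀ ⊓ B := le_inf inf_le_left hKB
    have hsub2 : stabilizer G x₀ ⊓ stabilizer G z ≤ stabilizer G x₀ ⊓ B :=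
      le_inf inf_le_left fun d hd => mem_cent_singleton.2 (hcomm' d hd).symm
    have e1 := Subgroup.eq_of_le_of_card_ge hsub1 (by omega)
    have e2 := Subgroup.eq_of_le_of_card_ge hsub2 (by omega)
    exact hcz ((e2.trans e1.symm ▸ hc : c ∈ stabilizer G x₀ ⊓ stabilizer G z).2)
  -- pairs inside `F`
  have hpair : ∀ {x y : Pt t}, x ∈ F → y ∈ F → x ≠ y →
      stabilizer G x ⊓ stabilizer G y = K := fun {x y} hx hy hne =>
    (Subgroup.eq_of_le_of_card_ge
      (show K ≤ stabilizer G x ⊓ stabilizer G y from fun c hc => ⟨hx c hc, hy c hc⟩)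
      (by rw [(S.coset_pair hne).1, hcardK])).symm
  have hstabB : ∀ x ∈ F, ∀ c ∈ B, c • x = x → c ∈ K := by
    intro x hx c hc hcx
    -- `c` fixes also another point of `F`
    obtain ⟨g, hg⟩ := MulAction.exists_smul_eq G (o t) x
    obtain ⟨y, hy, hne⟩ : ∃ y ∈ F, y ≠ x := by
      by_cases h : x = x₀
      · exact ⟨y₀, hy₀F, h ▸ hxy₀.symm⟩
      · exact ⟨x₀, hx₀F, Ne.symm h⟩
    have hne' : g⁻¹ • y ≠ o t := fun e => hne (by rw [← hg, ← e, smul_inv_smul])
    let f : (stabilizer G x ⊓ B : Subgroup G) →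
        norA t ⧸ (cenA t).subgroupOf (norA t) := fun d =>
      QuotientGroup.mk ⟨g⁻¹ * d.1 * g, smul_o_eq_iff.1 ((conj_smul_eq_iff g d.1).2 (by
        rw [hg]; exact d.2.1))⟩
    have hidx : ((cenA t).subgroupOf (norA t)).index = S.r := by
      have h := ((cenA t).subgroupOf (norA t)).card_mul_index
      rw [Nat.card_congr (Subgroup.subgroupOfEquivOfLe S.cen_le_nor).toEquiv, S.card_nor] at h
      exact Nat.eq_of_mul_eq_mul_left Nat.card_pos h
    have hle : Nat.card (stabilizer G x ⊓ B : Subgroup G) ≤ S.r := by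
      refine le_of_le_of_eq (Nat.card_le_card_of_injective f fun d e h => ?_) hidx
      have h1 : (g⁻¹ * d.1 * g)⁻¹ * (g⁻¹ * e.1 * g) ∈ cenA t := Subgroup.mem_subgroupOf.1 ((QuotientGroup.eq (s := (cenA t).subgroupOf (norA t))).1 h)
      rw [show (g⁻¹ * d.1 * g)⁻¹ * (g⁻¹ * e.1 * g) = g⁻¹ * (d.1⁻¹ * e.1) * g by group] at h1
      by_contra hde
      have hne1 : d.1⁻¹ * e.1 ≠ 1 := fun e' => hde (Subtype.ext (inv_mul_eq_one.1 e'))
      have hne2 : g⁻¹ * (d.1⁻¹ * e.1) * g ≠ 1 := fun e' => hne1 (by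
        simpa [mul_assoc] using congrArg (fun w => g * w * g⁻¹) e')
      have hkA : g⁻¹ * k * g ∈ cenA t := by
        rw [← S.cen_eq h1 hne2, mem_cent_singleton]
        have hB' : d.1⁻¹ * e.1 ∈ B := mul_mem (InvMemClass.inv_mem d.2.2) e.2.2
        calc g⁻¹ * (d.1⁻¹ * e.1) * g * (g⁻¹ * k * g) = g⁻¹ * ((d.1⁻¹ * e.1) * k) * g := by group
          _ = g⁻¹ * (k * (d.1⁻¹ * e.1)) * g := by rw [mem_cent_singleton.1 hB']
          _ = g⁻¹ * k * g * (g⁻¹ * (d.1⁻¹ * e.1) * g) := by group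
      have h3 := S.free_o hne' hkA ((conj_smul_eq_iff g k).2 (by rw [smul_inv_smul, hy k hkK]))
      exact hk (by simpa [mul_assoc] using congrArg (fun w => g * w * g⁻¹) h3)
    have e1 := Subgroup.eq_of_le_of_card_ge
      (show K ≤ stabilizer G x ⊓ B from fun d hd => ⟨hx d hd, hKB hd⟩) (by omega)
    rw [e1]
    exact ⟨hcx, hc⟩
  have hu₀kk : u₀ * k * u₀⁻¹ = k⁻¹ := hinv₀ k hkK
  have hu₀ne : u₀ ≠ 1 := fun e => by
    have := hu₀.1
    rw [e, orderOf_one] at this
    omega
  have hu₀B : u₀ ∉ B := fun h => hkk (by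
    have e := hu₀kk
    rw [← mem_cent_singleton.1 h, mul_inv_cancel_right] at e
    exact mul_eq_one_iff_eq_inv.2 e)
  -- involutions inverting `k` invert `B`
  have hinvB : ∀ u : G, orderOf u = 2 → u * k * u⁻¹ = k⁻¹ → ∀ c ∈ B, u * c * u⁻¹ = c⁻¹ := by
    intro u hu huk
    have huN : ∀ c ∈ B, u * c * u⁻¹ ∈ B := fun c hc => mem_cent_singleton.2 (by
      have hck : c * k⁻¹ = k⁻¹ * c := (Commute.inv_left (mem_cent_singleton.1 hc)).symm.eq
      calc k * (u * c * u⁻¹) = u * (u⁻¹ * k * u) * c * u⁻¹ := by group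
        _ = u * k⁻¹ * c * u⁻¹ := by
          rw [show u⁻¹ * k * u = k⁻¹ by rw [inv_eq_self_of_inv hu]; rw [inv_eq_self_of_inv hu] at huk; exact huk]
        _ = u * c * u⁻¹ * (u * k⁻¹ * u⁻¹) := by rw [mul_assoc u k⁻¹ c, ← hck]; group
        _ = u * c * u⁻¹ * k := by rw [← conj_inv, huk, inv_inv])
    let φ : B →* B :=
      { toFun := fun c => ⟨u * c.1 * u⁻¹, huN c.1 c.2⟩
        map_one' := Subtype.ext (by simp)
        map_mul' := fun c d => Subtype.ext (by simp [mul_assoc]) }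
    have hfpf : MonoidHom.FixedPointFree φ := fun c hc => by
      have hc' : u * c.1 * u⁻¹ = c.1 := congrArg Subtype.val hc
      by_contra hne
      have hne' : c.1 ≠ 1 := fun e => hne (Subtype.ext e)
      have hu1 : u ≠ 1 := fun e => by rw [e, orderOf_one] at hu; omega
      have hcomm := S.ct u c.1 k hu1 hne' hk (mul_inv_eq_iff_eq_mul.1 hc')
        (mem_cent_singleton.1 c.2).symm
      rw [hcomm.eq, mul_inv_cancel_right] at huk
      exact hkk (mul_eq_one_iff_eq_inv.2 huk)
    have hinvol : Function.Involutive φ := fun c => Subtype.ext (by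
      show u * (u * c.1 * u⁻¹) * u⁻¹ = c.1
      rw [inv_eq_self_of_inv hu]
      have huu : u * u = 1 := by rw [← sq, ← hu, pow_orderOf_eq_one]
      calc u * (u * c.1 * u) * u = (u * u) * c.1 * (u * u) := by group
        _ = c.1 := by rw [huu, one_mul, mul_one])
    intro c hc
    exact congrArg Subtype.val (congrFun (hfpf.coe_eq_inv_of_involutive hinvol) ⟨c, hc⟩)
  let Ik : Set G := {u | orderOf u = 2 ∧ u * k * u⁻¹ = k⁻¹}
  have hIkB : Nat.card Ik = Nat.card B := by
    refine Nat.card_congr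
      { toFun := fun u => ⟨u.1 * u₀, mem_cent_singleton.2 ?_⟩
        invFun := fun c => ⟨c.1 * u₀, ?_, ?_⟩
        left_inv := fun u => Subtype.ext ?_
        right_inv := fun c => Subtype.ext ?_ }
    · have h1 : u.1 * u₀ * k * (u.1 * u₀)⁻¹ = k := by
        calc u.1 * u₀ * k * (u.1 * u₀)⁻¹ = u.1 * (u₀ * k * u₀⁻¹) * u.1⁻¹ := by group
          _ = k := by rw [hu₀kk, ← conj_inv, u.2.2, inv_inv]
      exact (mul_inv_eq_iff_eq_mul.1 h1).symm
    · refine orderOf_eq_prime ?_ fun e => hu₀B ?_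
      · have h := hinvB u₀ hu₀.1 hu₀kk c.1 c.2
        rw [inv_eq_self_of_inv hu₀.1] at h
        rw [sq, mul_assoc, ← mul_assoc u₀, h, mul_inv_cancel]
      · have : u₀ = c.1⁻¹ := eq_inv_of_mul_eq_one_right e
        exact this ▸ InvMemClass.inv_mem c.2
    · calc c.1 * u₀ * k * (c.1 * u₀)⁻¹ = c.1 * (u₀ * k * u₀⁻¹) * c.1⁻¹ := by group
        _ = k⁻¹ := by
          rw [hu₀kk, ← conj_inv, ← mem_cent_singleton.1 c.2, mul_inv_cancel_right]
    · show u.1 * u₀ * u₀ = u.1
      rw [mul_assoc, show u₀ * u₀ = 1 by rw [← sq, ← hu₀.1, pow_orderOf_eq_one], mul_one]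
    · show c.1 * u₀ * u₀ = c.1
      rw [mul_assoc, show u₀ * u₀ = 1 by rw [← sq, ← hu₀.1, pow_orderOf_eq_one], mul_one]
  have hIF : ∀ u ∈ Ik, ∀ x ∈ F, u • x ∈ F ∧ u • x ≠ x := by
    intro u hu x hx
    refine ⟨fun c hc => ?_, fun hux => ?_⟩
    · have h := hinvB u hu.1 hu.2 c (hKB hc)
      rw [inv_eq_self_of_inv hu.1] at h
      have hcu : c * u = u * c⁻¹ := by
        have huu : u * u = 1 := by rw [← sq, ← hu.1, pow_orderOf_eq_one]
        calc c * u = (u * u) * c * u := by rw [huu, one_mul]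
          _ = u * (u * c * u) := by group
          _ = u * c⁻¹ := by rw [h]
      rw [smul_smul, hcu, mul_smul, hx _ (InvMemClass.inv_mem hc)]
    · obtain ⟨g, hg⟩ := MulAction.exists_smul_eq G (o t) x
      obtain ⟨y, hy, hne⟩ : ∃ y ∈ F, y ≠ x := by
        by_cases h : x = x₀
        · exact ⟨y₀, hy₀F, h ▸ hxy₀.symm⟩
        · exact ⟨x₀, hx₀F, Ne.symm h⟩
      have hne' : g⁻¹ • y ≠ o t := fun e => hne (by rw [← hg, ← e, smul_inv_smul])
      have hordu : orderOf (g⁻¹ * u * g) = 2 := by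
        rw [← hu.1]
        simpa using orderOf_injective (MulAut.conj g⁻¹).toMonoidHom (MulAut.conj g⁻¹).injective u
      have huA : g⁻¹ * u * g ∈ cenA t :=
        (S.inv_fix_iff hordu).1 ((conj_smul_eq_iff g u).2 (by rw [hg]; exact hux))
      have hkN : g⁻¹ * k * g ∈ norA t :=
        smul_o_eq_iff.1 ((conj_smul_eq_iff g k).2 (by rw [hg]; exact hx k hkK))
      have h1 : (g⁻¹ * k * g) * (g⁻¹ * u * g) * (g⁻¹ * k * g)⁻¹ * (g⁻¹ * u * g)⁻¹ ∈ cenA t :=
        mul_mem ((Subgroup.mem_normalizer_iff.1 hkN _).1 huA) (InvMemClass.inv_mem huA)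
      rw [show (g⁻¹ * k * g) * (g⁻¹ * u * g) * (g⁻¹ * k * g)⁻¹ * (g⁻¹ * u * g)⁻¹ =
        g⁻¹ * (k * (u * k * u⁻¹)⁻¹) * g by group, hu.2, inv_inv] at h1
      have h3 := S.free_o hne' h1
        ((conj_smul_eq_iff g (k * k)).2 (by rw [smul_inv_smul, mul_smul, hy k hkK, hy k hkK]))
      exact hkk (by simpa [mul_assoc] using congrArg (fun w => g * w * g⁻¹) h3)
  -- `|B| = r w`
  set w := Nat.card F - 1
  have hFcard : Nat.card F = w + 1 := by
    have : 0 < Nat.card F := Nat.card_pos_iff.2 ⟨⟨x₀, hx₀F⟩, inferInstance⟩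
    omega
  have hBcard : Nat.card B = S.r * w := by
    rw [← hIkB]
    let T : Set (Pt t) := {y | y ∈ F ∧ y ≠ x₀}
    have hT : Nat.card T = w := by
      rw [Nat.card_coe_set_eq, show T = F \ {x₀} from rfl,
        Set.ncard_sdiff_singleton_of_mem hx₀F, ← Nat.card_coe_set_eq]
    let f : Ik → T := fun u => ⟨u.1 • x₀, hIF u.1 u.2 x₀ hx₀F⟩
    have := Fintype.ofFinite T
    rw [← Nat.card_congr (Equiv.sigmaFiberEquiv f), Nat.card_sigma,
      Finset.sum_congr rfl (g := fun _ => S.r) fun y _ => ?_, Finset.sum_const, smul_eq_mul,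
      Finset.card_univ, ← Nat.card_eq_fintype_card, hT, mul_comm]
    rw [← (S.coset_pair y.2.2.symm).2.1]
    refine Nat.card_congr
      { toFun := fun u => ⟨u.1.1, u.1.2.1, congrArg Subtype.val u.2⟩
        invFun := fun u => ⟨⟨u.1, u.2.1, ?_⟩, Subtype.ext u.2.2⟩
        left_inv := fun u => rfl
        right_inv := fun u => rfl }
    exact (S.coset_pair y.2.2.symm).2.2 u.1 u.2 k ((hpair hx₀F y.2.1 y.2.2.symm).symm ▸ hkK)
  let act : MulAction B F :=
    { smul := fun c q => ⟨c.1 • q.1, hBF c.1 c.2 q.1 q.2⟩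
      one_smul := fun q => Subtype.ext (one_smul G q.1)
      mul_smul := fun c d q => Subtype.ext (mul_smul c.1 d.1 q.1) }
  have horb : ∀ q : F, Nat.card (orbit B q) = w := by
    intro q
    have hst : Nat.card (stabilizer B q) = S.r := by
      rw [← hcardK]
      refine Nat.card_congr
        { toFun := fun c => ⟨c.1.1, hstabB q.1 q.2 c.1.1 c.1.2 (congrArg Subtype.val c.2)⟩
          invFun := fun c => ⟨⟨c.1, hKB c.2⟩, Subtype.ext (q.2 c.1 c.2)⟩
          left_inv := fun c => rfl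
          right_inv := fun c => rfl }
    have h := Nat.card_congr (orbitProdStabilizerEquivGroup B q)
    rw [Nat.card_prod, hst, hBcard, mul_comm] at h
    exact Nat.eq_of_mul_eq_mul_left S.r_pos h
  have hwdvd : w ∣ w + 1 := by
    have := Fintype.ofFinite (orbitRel.Quotient B F)
    rw [← hFcard, Nat.card_congr (selfEquivSigmaOrbits' B F), Nat.card_sigma,
      Finset.sum_congr rfl (g := fun _ => w) fun O _ => ?_]
    · rw [Finset.sum_const, smul_eq_mul]; exact dvd_mul_left _ _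
    · induction O using Quotient.inductionOn' with
      | h q => rw [orbitRel.Quotient.orbit_mk]; exact horb q
  have hw : w = 1 := Nat.dvd_one.1 ((Nat.dvd_add_right dvd_rfl).1 hwdvd)
  by_contra hcon
  push Not at hcon
  have h3 : ({x₀, y₀, z} : Set (Pt t)) ⊆ F :=
    Set.insert_subset hx₀F (Set.insert_subset hy₀F (Set.singleton_subset_iff.2 hzF))
  have := Set.ncard_le_ncard h3 (Set.toFinite F)
  rw [Set.ncard_eq_three.2 ⟨x₀, y₀, z, hxy₀, hcon.1.symm, hcon.2.symm, rfl⟩,
    ← Nat.card_coe_set_eq, hFcard] at this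
  omega

/-- The degree is `|A| + 1`. -/
lemma Hyp.card_points : Nat.card (Pt t) = Nat.card (cenA t) + 1 := by
  classical
  have := Fintype.ofFinite (Pt t)
  have := Fintype.ofFinite G
  set a := Nat.card (cenA t)
  have ha : 0 < a := Nat.card_pos
  obtain ⟨p, hp⟩ : ∃ p : Pt t, p ≠ o t := by
    obtain ⟨g, -, hg⟩ := SetLike.exists_of_lt (lt_top_iff_ne_top.2 S.nor_ne_top)
    refine ⟨(g : G ⧸ norA t), fun e => hg ?_⟩
    simpa using QuotientGroup.eq.1 e
  have hlow : a + 1 ≤ Nat.card (Pt t) := by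
    let f : Option (cenA t) → Pt t := fun c => c.elim (o t) fun c => c.1 • p
    have hne : ∀ c : cenA t, c.1 • p ≠ o t := fun c e => hp (by
      rw [eq_inv_smul_iff.2 e, inv_smul_eq_iff]
      exact (smul_o_eq_iff.2 (S.cen_le_nor c.2)).symm)
    have hinj : Function.Injective f := by
      rintro (_ | c) (_ | d) h
      · rfl
      · exact absurd h.symm (hne d)
      · exact absurd h (hne c)
      · have h' : c.1 • p = d.1 • p := h
        have := S.free_o hp (mul_mem (InvMemClass.inv_mem d.2) c.2)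
          (by rw [mul_smul, h', inv_smul_smul])
        exact congrArg some (Subtype.ext (inv_mul_eq_one.1 this).symm)
    have := Nat.card_le_card_of_injective f hinj
    rwa [Finite.card_option] at this
  have hup : Nat.card (Pt t) ≤ a + 1 := by
    let P : Finset (Pt t) := Finset.univ.erase (o t)
    let D : Pt t → Finset G := fun q =>
      (Finset.univ.filter fun c => c ∈ stabilizer G (o t) ⊓ stabilizer G q).erase 1
    have hD : ∀ q ∈ P, (D q).card = S.r - 1 := by
      intro q hq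
      rw [Finset.card_erase_of_mem (Finset.mem_filter.2 ⟨Finset.mem_univ _, one_mem _⟩),
        ← (S.coset_pair (Finset.mem_erase.1 hq).1.symm).1, Nat.card_eq_fintype_card,
        Fintype.card_subtype]
    have hdisj : (P : Set (Pt t)).PairwiseDisjoint D := by
      intro q hq q' hq' hne
      rw [Finset.mem_coe] at hq hq'
      simp only [Function.onFun]
      rw [Finset.disjoint_left]
      intro c hc hc'
      obtain ⟨hc1, hc⟩ := Finset.mem_erase.1 hc
      obtain ⟨-, hc'⟩ := Finset.mem_erase.1 hc'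
      rcases S.fix_two hc1 (Finset.mem_erase.1 hq).1.symm (Finset.mem_filter.1 hc).2.1
        (Finset.mem_filter.1 hc).2.2 (Finset.mem_filter.1 hc').2.2 with h | h
      · exact (Finset.mem_erase.1 hq').1 h
      · exact hne h.symm
    let NA : Finset G := (Finset.univ.filter fun c => c ∈ norA t) \
      (Finset.univ.filter fun c => c ∈ cenA t)
    have hsub : P.biUnion D ⊆ NA := by
      intro c hc
      obtain ⟨q, hq, hc⟩ := Finset.mem_biUnion.1 hc
      obtain ⟨hc1, hc⟩ := Finset.mem_erase.1 hc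
      refine Finset.mem_sdiff.2 ⟨Finset.mem_filter.2 ⟨Finset.mem_univ _,
        smul_o_eq_iff.1 (Finset.mem_filter.1 hc).2.1⟩, fun hA => hc1 ?_⟩
      exact S.free_o (Finset.mem_erase.1 hq).1 (Finset.mem_filter.1 hA).2 (Finset.mem_filter.1 hc).2.2
    have hNA : NA.card = a * S.r - a := by
      rw [Finset.card_sdiff_of_subset fun c hc => Finset.mem_filter.2 ⟨Finset.mem_univ _,
        S.cen_le_nor (Finset.mem_filter.1 hc).2⟩]
      rw [← Fintype.card_subtype, ← Fintype.card_subtype, ← Nat.card_eq_fintype_card,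
        ← Nat.card_eq_fintype_card]
      show Nat.card (norA t) - Nat.card (cenA t) = _
      rw [S.card_nor]
    have h := Finset.card_le_card hsub
    rw [Finset.card_biUnion hdisj, Finset.sum_congr rfl hD, Finset.sum_const, smul_eq_mul, hNA,
      Finset.card_erase_of_mem (Finset.mem_univ _), Finset.card_univ, ← Nat.card_eq_fintype_card,
      ← Nat.mul_sub_one] at h
    have := Nat.le_of_mul_le_mul_right h (by have := S.two_le_r; omega)
    omega
  omega

/-- `A` is regular on the other points. -/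
lemma Hyp.exists_cen_smul {p q : Pt t} (hp : p ≠ o t) (hq : q ≠ o t) :
    ∃! c : cenA t, (c : G) • p = q := by
  classical
  have := Fintype.ofFinite (Pt t)
  let f : cenA t → {x : Pt t // x ≠ o t} := fun c => ⟨c.1 • p, fun e => hp (by
    rw [eq_inv_smul_iff.2 e, inv_smul_eq_iff]
    exact (smul_o_eq_iff.2 (S.cen_le_nor c.2)).symm)⟩
  have hinj : Function.Injective f := fun c d h => by
    have h' : c.1 • p = d.1 • p := congrArg Subtype.val h
    have := S.free_o hp (mul_mem (InvMemClass.inv_mem d.2) c.2) (by rw [mul_smul, h', inv_smul_smul])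
    exact Subtype.ext (inv_mul_eq_one.1 this).symm
  have hbij := hinj.bijective_of_nat_card_le (by
    rw [Nat.card_eq_fintype_card (α := {x : Pt t // x ≠ o t}), Fintype.card_subtype_compl,
      Fintype.card_subtype_eq, ← Nat.card_eq_fintype_card, S.card_points]
    omega)
  obtain ⟨c, hc⟩ := hbij.2 ⟨q, hq⟩
  exact ⟨c, congrArg Subtype.val hc, fun d hd => hinj (Subtype.ext (hd.trans (congrArg Subtype.val hc).symm))⟩

end Cfsg.Agent.H6.CT
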