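import Mathlib
import Cfsg.Agent.S0182

/-!
# Simple groups in which commuting is transitive: the centraliser of an involution
-/

set_option autoImplicit false

open MulAction

namespace Cfsg.Agent.H6.CT

/-- Running hypotheses. -/
structure Hyp (G : Type*) [Group G] (t : G) : Prop where
  simple : IsSimpleGroup G
  noncomm : ¬ IsMulCommutative G
  ct : ∀ a b c : G, a ≠ 1 → b ≠ 1 → c ≠ 1 → Commute a b → Commute b c → Commute a c
  inv : orderOf t = 2

variable {G : Type*} [Group G]

/-- The centraliser of the chosen involution. -/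
abbrev cenA (t : G) : Subgroup G := Subgroup.centralizer {t}

/-- Its normaliser. -/
abbrev norA (t : G) : Subgroup G := Subgroup.normalizer (cenA t : Set G)

lemma mem_cent_singleton {t g : G} : g ∈ cenA t ↔ t * g = g * t := Subgroup.mem_centralizer_singleton_iff.trans eq_comm

lemma cent_eq_of_mem
    (hct : ∀ a b c : G, a ≠ 1 → b ≠ 1 → c ≠ 1 → Commute a b → Commute b c → Commute a c)
    {x y : G} (hx : x ≠ 1) (hy : y ≠ 1) (h : y ∈ cenA x) : cenA y = cenA x := by
  have hxy : Commute x y := mem_cent_singleton.1 h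
  ext g
  by_cases hg : g = 1
  · subst hg; simp
  · rw [mem_cent_singleton, mem_cent_singleton]
    exact ⟨fun e => hct x y g hx hy hg hxy e, fun e => hct y x g hy hx hg hxy.symm e⟩

lemma cent_comm
    (hct : ∀ a b c : G, a ≠ 1 → b ≠ 1 → c ≠ 1 → Commute a b → Commute b c → Commute a c)
    {x : G} (hx : x ≠ 1) {y z : G} (hy : y ∈ cenA x) (hz : z ∈ cenA x) : y * z = z * y := by
  by_cases hy1 : y = 1
  · subst hy1; simp
  rw [← cent_eq_of_mem hct hx hy1 hy] at hz
  exact mem_cent_singleton.1 hz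

/-- A finite simple non-abelian group with transitive commuting has an involution. -/
lemma exists_hyp [Finite G] (hs : IsSimpleGroup G) (hn : ¬ IsMulCommutative G)
    (hct : ∀ a b c : G, a ≠ 1 → b ≠ 1 → c ≠ 1 → Commute a b → Commute b c → Commute a c) :
    ∃ t : G, Hyp G t := by
  have heven : 2 ∣ Nat.card G := by
    by_contra h
    have hsol := Cfsg.Agent.S0182.result (G := G) (Nat.odd_iff.2 (by omega))
      (fun x hx a ha b hb => cent_comm hct hx ha hb)
    exact hn ⟨⟨fun a b => (IsSimpleGroup.comm_iff_isSolvable.2 hsol) a b⟩⟩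
  have := Fact.mk Nat.prime_two
  obtain ⟨t, ht⟩ := exists_prime_orderOf_dvd_card' (G := G) 2 heven
  exact ⟨t, hs, hn, hct, ht⟩

/-- Two involutions with product of odd order are conjugate. -/
lemma isConj_of_odd_product {t u : G} (ht : t * t = 1) (hu : u * u = 1)
    (hodd : Odd (orderOf (t * u))) : IsConj t u := by
  obtain ⟨k, hk⟩ := hodd
  set x := t * u
  have hti : t⁻¹ = t := inv_eq_of_mul_eq_one_right ht
  have hui : u⁻¹ = u := inv_eq_of_mul_eq_one_right hu
  have hinv : t * x * t⁻¹ = x⁻¹ := by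
    simp only [x, _root_.mul_inv_rev, hti, hui]
    rw [← mul_assoc, ht, one_mul]
  have htx : t * (x ^ k)⁻¹ = x ^ k * t := by
    have h1 : t * x ^ k * t⁻¹ = (x ^ k)⁻¹ := by rw [← conj_pow, hinv, inv_pow]
    rw [← h1, ← mul_assoc, ← mul_assoc, hti, ht, one_mul]
  refine isConj_iff.2 ⟨x ^ k, ?_⟩
  have h2 : x ^ (k + k) = x⁻¹ := eq_inv_of_mul_eq_one_left (by
    rw [← pow_succ, show k + k + 1 = 2 * k + 1 by ring, ← hk, pow_orderOf_eq_one])
  rw [mul_assoc, htx, ← mul_assoc, ← pow_add, h2]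
  simp only [x, _root_.mul_inv_rev, hti, hui]
  rw [mul_assoc, ht, mul_one]

variable [Finite G] {t : G} (S : Hyp G t)
include S

lemma Hyp.ne_one : t ≠ 1 := fun e => by
  have := S.inv
  rw [e, orderOf_one] at this
  omega

lemma Hyp.self_mem : t ∈ cenA t := mem_cent_singleton.2 rfl

lemma Hyp.cen_eq {x : G} (hx : x ∈ cenA t) (hx1 : x ≠ 1) : cenA x = cenA t :=
  cent_eq_of_mem S.ct S.ne_one hx1 hx

lemma Hyp.cen_comm {x y : G} (hx : x ∈ cenA t) (hy : y ∈ cenA t) : x * y = y * x :=
  cent_comm S.ct S.ne_one hx hy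

/-- An element conjugating a non-trivial element of `A` into `A` normalises it. -/
lemma Hyp.mem_nor {g x : G} (hx : x ∈ cenA t) (hx1 : x ≠ 1) (hg : g * x * g⁻¹ ∈ cenA t) :
    g ∈ norA t := by
  have hgx : g * x * g⁻¹ ≠ 1 := fun e => hx1 (conj_eq_one_iff.1 e)
  have h1 := S.cen_eq hx hx1
  have h2 := S.cen_eq hg hgx
  refine Subgroup.mem_normalizer_iff.2 fun y => ?_
  conv_lhs => rw [← h1]
  conv_rhs => rw [← h2]
  rw [mem_cent_singleton, mem_cent_singleton]
  simp [mul_assoc]
  rw [← mul_assoc x, ← mul_assoc y, mul_left_inj]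

lemma Hyp.nor_ne_top : norA t ≠ ⊤ := by
  have := S.simple
  intro h
  have hn : (cenA t).Normal := Subgroup.normalizer_eq_top_iff.1 h
  rcases hn.eq_bot_or_eq_top with e | e
  · exact S.ne_one (Subgroup.mem_bot.1 (e ▸ S.self_mem))
  · exact S.noncomm ⟨⟨fun a b => S.cen_comm (e ▸ Subgroup.mem_top a) (e ▸ Subgroup.mem_top b)⟩⟩

/-- There is one class of involutions. -/
lemma Hyp.isConj_inv {u : G} (hu : orderOf u = 2) : IsConj t u := by
  have := S.simple
  by_contra hnc
  have huu : u * u = 1 := by rw [← sq, ← hu, pow_orderOf_eq_one]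
  have htt : t * t = 1 := by
    have h := pow_orderOf_eq_one t
    rwa [S.inv, sq] at h
  have hall : ∀ v : G, IsConj u v → Commute t v := by
    intro v huv
    have hvo : orderOf v = 2 := by
      obtain ⟨c, hc⟩ := isConj_iff.1 huv
      rw [← hc, ← hu]
      exact orderOf_injective (MulAut.conj c).toMonoidHom (MulAut.conj c).injective u
    have hvv : v * v = 1 := by
      have h := pow_orderOf_eq_one v
      rwa [hvo, sq] at h
    have hnc' : ¬ IsConj t v := fun h => hnc (h.trans huv.symm)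
    have heven : ¬ Odd (orderOf (t * v)) := fun h => hnc' (isConj_of_odd_product htt hvv h)
    obtain ⟨m, hm⟩ := Nat.not_odd_iff_even.1 heven
    set x := t * v
    have hm0 : m ≠ 0 := fun e => by
      have := orderOf_pos x
      omega
    set z := x ^ m
    have hz1 : z ≠ 1 := fun e => by
      have := orderOf_le_of_pow_eq_one (Nat.pos_of_ne_zero hm0) e
      omega
    have hzz : z⁻¹ = z := inv_eq_of_mul_eq_one_right (by rw [← pow_add, ← hm, pow_orderOf_eq_one])
    have hti : t⁻¹ = t := inv_eq_of_mul_eq_one_right htt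
    have hvi : v⁻¹ = v := inv_eq_of_mul_eq_one_right hvv
    have htx : t * x * t⁻¹ = x⁻¹ := by
      simp only [x, _root_.mul_inv_rev, hti, hvi]
      rw [← mul_assoc, htt, one_mul]
    have hvx : v * x * v⁻¹ = x⁻¹ := by
      simp only [x, _root_.mul_inv_rev, hti, hvi]
      rw [mul_assoc, mul_assoc, hvv, mul_one]
    have h1 : t * z * t⁻¹ = z := by rw [← conj_pow, htx, inv_pow, hzz]
    have h2 : v * z * v⁻¹ = z := by rw [← conj_pow, hvx, inv_pow, hzz]
    have hv1 : v ≠ 1 := fun e => by rw [e, orderOf_one] at hvo; omega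
    exact S.ct t z v S.ne_one hz1 hv1 (mul_inv_eq_iff_eq_mul.1 h1) (mul_inv_eq_iff_eq_mul.1 h2).symm
  -- the conjugates of `u` generate a normal subgroup inside the centraliser of `t`
  have hle : Subgroup.normalClosure {u} ≤ cenA t := by
    rw [Subgroup.normalClosure, Subgroup.closure_le]
    intro v hv
    rw [Group.mem_conjugatesOfSet_iff] at hv
    obtain ⟨w, hw, hwv⟩ := hv
    rw [Set.mem_singleton_iff] at hw
    subst hw
    exact mem_cent_singleton.2 (hall v hwv).eq
  rcases (inferInstance : (Subgroup.normalClosure ({u} : Set G)).Normal).eq_bot_or_eq_top with e | e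
  · have : u ∈ Subgroup.normalClosure ({u} : Set G) := Subgroup.subset_normalClosure rfl
    rw [e, Subgroup.mem_bot] at this
    rw [this, orderOf_one] at hu
    omega
  · rw [e] at hle
    exact S.nor_ne_top (by
      rw [norA, top_le_iff.1 hle]
      exact eq_top_iff.2 Subgroup.le_normalizer)

/-- The involutions of `A`. -/
abbrev Hyp.invA (_S : Hyp G t) : Set G := {u | u ∈ cenA t ∧ orderOf u = 2}

/-- Their number. -/
noncomputable def Hyp.r (S : Hyp G t) : ℕ := Nat.card S.invA

lemma Hyp.cen_le_nor : cenA t ≤ norA t := Subgroup.le_normalizer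

/-- `N` is transitive on the involutions of `A`. -/
lemma Hyp.card_nor : Nat.card (norA t) = Nat.card (cenA t) * S.r := by
  classical
  let f : norA t → S.invA := fun g => ⟨g.1 * t * g.1⁻¹,
    (Subgroup.mem_normalizer_iff.1 g.2 t).1 S.self_mem, by
      rw [show orderOf (g.1 * t * g.1⁻¹) = orderOf t from
        orderOf_injective (MulAut.conj g.1).toMonoidHom (MulAut.conj g.1).injective t, S.inv]⟩
  have hf : ∀ u : S.invA, Nat.card {g : norA t // f g = u} = Nat.card (cenA t) := by
    rintro ⟨u, hu, huo⟩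
    obtain ⟨c, hc⟩ := isConj_iff.1 (S.isConj_inv huo)
    have hcN : c ∈ norA t := S.mem_nor S.self_mem S.ne_one (hc ▸ hu)
    refine Nat.card_congr
      { toFun := fun g => ⟨c⁻¹ * g.1.1, mem_cent_singleton.2 ?_⟩
        invFun := fun x => ⟨⟨c * x.1, mul_mem hcN (S.cen_le_nor x.2)⟩, Subtype.ext ?_⟩
        left_inv := fun g => by simp
        right_inv := fun x => by simp }
    · have h : g.1.1 * t * g.1.1⁻¹ = u := congrArg Subtype.val g.2
      have h' : c * t * c⁻¹ = g.1.1 * t * g.1.1⁻¹ := hc.trans h.symm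
      calc t * (c⁻¹ * g.1.1) = c⁻¹ * (c * t * c⁻¹) * g.1.1 := by group
        _ = c⁻¹ * (g.1.1 * t * g.1.1⁻¹) * g.1.1 := by rw [h']
        _ = c⁻¹ * g.1.1 * t := by group
    · show c * x.1 * t * (c * x.1)⁻¹ = u
      rw [mul_assoc c, ← mem_cent_singleton.1 x.2, ← hc]
      group
  have := Fintype.ofFinite S.invA
  rw [← Nat.card_congr (Equiv.sigmaFiberEquiv f), Nat.card_sigma, Finset.sum_congr rfl fun u _ => hf u,
    Finset.sum_const, smul_eq_mul, Finset.card_univ, ← Nat.card_eq_fintype_card, mul_comm, Hyp.r]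

/-- Elements of `N` outside `A` fix no non-trivial element of `A`. -/
lemma Hyp.fpf {g x : G} (hgA : g ∉ cenA t) (hx : x ∈ cenA t) (hx1 : x ≠ 1) :
    g * x * g⁻¹ ≠ x := fun e => hgA (S.cen_eq hx hx1 ▸
  mem_cent_singleton.2 (mul_inv_eq_iff_eq_mul.1 e).symm)

/-- `[N : A]` divides `|A| - 1`. -/
lemma Hyp.r_dvd : S.r ∣ Nat.card (cenA t) - 1 := by
  classical
  let T : Set G := {x | x ∈ cenA t ∧ x ≠ 1}
  have hT : Nat.card T = Nat.card (cenA t) - 1 := by
    rw [Nat.card_coe_set_eq, show T = (cenA t : Set G) \ {1} from rfl,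
      Set.ncard_sdiff_singleton_of_mem (one_mem _), ← Nat.card_coe_set_eq]
    rfl
  let act : MulAction (norA t) T :=
    { smul := fun g x => ⟨g.1 * x.1 * g.1⁻¹, (Subgroup.mem_normalizer_iff.1 g.2 x.1).1 x.2.1,
        fun e => x.2.2 (conj_eq_one_iff.1 e)⟩
      one_smul := fun x => Subtype.ext (by show (1 : G) * x.1 * 1⁻¹ = x.1; simp)
      mul_smul := fun g h x => Subtype.ext (by
        show (g.1 * h.1) * x.1 * (g.1 * h.1)⁻¹ = g.1 * (h.1 * x.1 * h.1⁻¹) * g.1⁻¹
        group) }
  have hstab : ∀ x : T, Nat.card (stabilizer (norA t) x) = Nat.card (cenA t) := by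
    intro x
    refine Nat.card_congr
      { toFun := fun g => ⟨g.1.1, ?_⟩
        invFun := fun y => ⟨⟨y.1, S.cen_le_nor y.2⟩, Subtype.ext ?_⟩
        left_inv := fun g => rfl
        right_inv := fun y => rfl }
    · by_contra h
      exact S.fpf h x.2.1 x.2.2 (congrArg Subtype.val g.2)
    · show y.1 * x.1 * y.1⁻¹ = x.1
      rw [S.cen_comm y.2 x.2.1, mul_inv_cancel_right]
  have horb : ∀ x : T, Nat.card (orbit (norA t) x) = S.r := by
    intro x
    have h := Nat.card_congr (orbitProdStabilizerEquivGroup (norA t) x)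
    rw [Nat.card_prod, hstab, S.card_nor, mul_comm] at h
    exact Nat.eq_of_mul_eq_mul_left Nat.card_pos h
  have := Fintype.ofFinite (orbitRel.Quotient (norA t) T)
  rw [← hT, Nat.card_congr (selfEquivSigmaOrbits' (norA t) T), Nat.card_sigma,
    Finset.sum_congr rfl (g := fun _ => S.r) fun O _ => ?_]
  · rw [Finset.sum_const, smul_eq_mul]
    exact dvd_mul_left _ _
  · induction O using Quotient.inductionOn' with
    | h x => rw [orbitRel.Quotient.orbit_mk]; exact horb x

lemma Hyp.two_dvd : 2 ∣ Nat.card (cenA t) := by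
  rw [← S.inv]; exact Subgroup.orderOf_dvd_natCard _ S.self_mem

lemma Hyp.r_pos : 0 < S.r := Nat.card_pos_iff.2 ⟨⟨t, S.self_mem, S.inv⟩, inferInstance⟩

lemma Hyp.r_odd : S.r % 2 = 1 := by
  obtain ⟨a, ha⟩ := S.two_dvd
  have hpos : 0 < Nat.card (cenA t) := Nat.card_pos
  rcases Nat.mod_two_eq_zero_or_one S.r with h | h
  · have h2 : 2 ∣ Nat.card (cenA t) - 1 := (Nat.dvd_of_mod_eq_zero h).trans S.r_dvd
    omega
  · exact h

lemma Hyp.coprime : Nat.Coprime (Nat.card (cenA t)) S.r := by
  have hpos : 0 < Nat.card (cenA t) := Nat.card_pos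
  refine Nat.Coprime.coprime_dvd_right S.r_dvd ?_
  exact (Nat.coprime_self_sub_right (by omega)).2 (Nat.coprime_one_right _)

/-- The `r`-th power of an element of `N` lies in `A`. -/
lemma Hyp.pow_r_mem {g : G} (hg : g ∈ norA t) : g ^ S.r ∈ cenA t := by
  set A' := (cenA t).subgroupOf (norA t)
  have hn : A'.Normal := Subgroup.normal_in_normalizer
  have hidx : A'.index = S.r := by
    have h := A'.card_mul_index
    rw [Nat.card_congr (Subgroup.subgroupOfEquivOfLe S.cen_le_nor).toEquiv, S.card_nor] at h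
    exact Nat.eq_of_mul_eq_mul_left Nat.card_pos h
  have := Subgroup.pow_index_mem A' ⟨g, hg⟩
  rw [hidx] at this
  exact this

/-- An element killed by exponents `|A|` and `r` is trivial. -/
lemma Hyp.eq_one_of_pow {x : G} (h1 : x ^ Nat.card (cenA t) = 1) (h2 : x ^ S.r = 1) : x = 1 :=
  orderOf_eq_one_iff.1 (Nat.eq_one_of_dvd_coprimes S.coprime (orderOf_dvd_of_pow_eq_one h1)
    (orderOf_dvd_of_pow_eq_one h2))

/-- An involution of `N` lies in `A`. -/
lemma Hyp.inv_mem {u : G} (hu : orderOf u = 2) (huN : u ∈ norA t) : u ∈ cenA t := by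
  have h := S.pow_r_mem huN
  rw [← Nat.div_add_mod S.r 2, S.r_odd, pow_succ, pow_mul, ← hu, pow_orderOf_eq_one, one_pow,
    one_mul] at h
  exact h

/-- `A` meets the normaliser of a different conjugate trivially. -/
lemma Hyp.inter_conj {g x : G} (hg : g ∉ norA t) (hx : x ∈ cenA t) (hxg : g⁻¹ * x * g ∈ norA t) :
    x = 1 := by
  refine S.eq_one_of_pow ?_ ?_
  · exact orderOf_dvd_iff_pow_eq_one.1 (Subgroup.orderOf_dvd_natCard _ hx)
  · by_contra h
    have h2 : g⁻¹ * x ^ S.r * g ∈ cenA t := by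
      have := S.pow_r_mem hxg
      rwa [show g⁻¹ * x * g = g⁻¹ * x * g⁻¹⁻¹ by rw [inv_inv], conj_pow, inv_inv] at this
    have := S.mem_nor (g := g⁻¹) (pow_mem hx _) h (by rwa [inv_inv])
    exact hg (inv_inv g ▸ (norA t).inv_mem this)

end Cfsg.Agent.H6.CT
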