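import Cfsg.Agent.H6.CT.Action
import Cfsg.Agent.S0885
import Cfsg.Agent.H50.InvolutionCAField
import Cfsg.Agent.H6.Torus

/-!
# Finite simple groups in which commuting is transitive are `PSL(2, 2^f)`
-/

set_option autoImplicit false

open MulAction

namespace Cfsg.Agent.H6.CT

variable {G : Type*} [Group G] [Finite G] {t : G} (S : Hyp G t)
include S

lemma Hyp.two_le_card : 2 ≤ Nat.card (cenA t) :=
  Nat.le_of_dvd Nat.card_pos S.two_dvd

lemma Hyp.eq_one_of_fix_three {g : G} {x y z : Pt t} (hxy : x ≠ y) (hzx : z ≠ x) (hzy : z ≠ y)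
    (hx : g • x = x) (hy : g • y = y) (hz : g • z = z) : g = 1 := by
  by_contra h
  rcases S.fix_two h hxy hx hy hz with e | e
  · exact hzx e
  · exact hzy e

lemma Hyp.eq_one_of_fix_all {g : G} (hg : ∀ x : Pt t, g • x = x) : g = 1 := by
  classical
  have := Fintype.ofFinite (Pt t)
  have h : 2 < Fintype.card (Pt t) := by
    have := S.card_points
    have := S.two_le_card
    rw [← Nat.card_eq_fintype_card]
    omega
  obtain ⟨x, y, z, hxy, hxz, hyz⟩ := Fintype.two_lt_card_iff.1 h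
  exact S.eq_one_of_fix_three hxy hxz.symm hyz.symm (hg x) (hg y) (hg z)

lemma Hyp.two_transitive : IsMultiplyPretransitive G (Pt t) 2 := by
  rw [is_two_pretransitive_iff]
  intro x y z w hxy hzw
  obtain ⟨g₁, hg₁⟩ := MulAction.exists_smul_eq G x (o t)
  obtain ⟨g₂, hg₂⟩ := MulAction.exists_smul_eq G z (o t)
  have hp : g₁ • y ≠ o t := fun e => hxy (smul_left_cancel g₁ (hg₁.trans e.symm))
  have hq : g₂ • w ≠ o t := fun e => hzw (smul_left_cancel g₂ (hg₂.trans e.symm))
  obtain ⟨c, hc, -⟩ := S.exists_cen_smul hp hq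
  refine ⟨g₂⁻¹ * c * g₁, ?_, ?_⟩
  · rw [mul_smul, mul_smul, hg₁, smul_o_eq_iff.2 (S.cen_le_nor c.2), inv_smul_eq_iff, hg₂]
  · rw [mul_smul, mul_smul, hc, inv_smul_smul]

lemma Hyp.exists_ne_base : ∃ p : Pt t, p ≠ o t := by
  classical
  have := Fintype.ofFinite (Pt t)
  refine Fintype.exists_ne_of_one_lt_card ?_ (o t)
  have := S.card_points
  have := S.two_le_card
  rw [← Nat.card_eq_fintype_card]
  omega

lemma Hyp.isZassenhaus : Cfsg.IsZassenhausGroup G (Pt t) := by
  obtain ⟨p, hp⟩ := S.exists_ne_base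
  refine ⟨⟨fun {g h} e => ?_⟩, S.two_transitive, ?_, ?_, ?_⟩
  · exact inv_mul_eq_one.1 (S.eq_one_of_fix_all (g := g⁻¹ * h) fun x => by
      rw [mul_smul, ← e x, inv_smul_smul])
  · intro g a b c hab hbc hac ha hb hc
    exact S.eq_one_of_fix_three hab hac.symm hbc.symm ha hb hc
  · have hcard := (S.coset_base hp).1
    have : Nontrivial (stabilizer G (o t) ⊓ stabilizer G p : Subgroup G) :=
      Finite.one_lt_card_iff_nontrivial.1 (by rw [hcard]; exact S.two_le_r)
    obtain ⟨⟨g, hg⟩, hg1⟩ := exists_ne (1 : (stabilizer G (o t) ⊓ stabilizer G p : Subgroup G))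
    exact ⟨g, fun e => hg1 (Subtype.ext e), o t, p, hp.symm, hg.1, hg.2⟩
  · intro N hN htr
    have := S.simple
    rcases hN.eq_bot_or_eq_top with e | e
    · obtain ⟨⟨n, hn⟩, hnp⟩ := htr.exists_smul_eq (o t) p
      obtain rfl : n = 1 := Subgroup.mem_bot.1 (e ▸ hn)
      exact absurd ((one_smul G (o t)).symm.trans hnp).symm hp
    · refine ⟨o t, fun hb => S.ne_one ?_⟩
      have hmem : (⟨t, e ▸ Subgroup.mem_top t⟩ : N) ∈ stabilizer N (o t) :=
        smul_o_eq_iff.2 (S.cen_le_nor S.self_mem)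
      exact congrArg Subtype.val (Subgroup.mem_bot.1 ((le_of_eq hb) hmem))

/-- `|A| = r + 1`: all non-trivial elements of `A` are involutions. -/
lemma Hyp.card_eq_succ : Nat.card (cenA t) = S.r + 1 := by
  classical
  have := Fintype.ofFinite (Pt t)
  obtain ⟨p, hp⟩ := S.exists_ne_base
  have hle : cenA t ≤ stabilizer G (o t) := fun g hg => smul_o_eq_iff.2 (S.cen_le_nor hg)
  have hcard : Nat.card (cenA t) + 1 = Fintype.card (Pt t) := by
    rw [← Nat.card_eq_fintype_card, S.card_points]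
  have hfix : ∀ u ∈ cenA t, u ≠ 1 → ∀ c : Pt t, u • c = c → c = o t := fun u hu hu1 c hc =>
    by_contra fun h => hu1 (S.free_o h hu hc)
  rcases Cfsg.Agent.S0885.result S.isZassenhaus hp.symm (Nat.card (cenA t)) S.r hcard.symm
    (S.coset_base hp).1 (Nat.odd_iff.2 S.r_odd) (cenA t) hle hcard hfix with h | ⟨-, ⟨u, v, huv⟩, -⟩
  · obtain ⟨k, hk⟩ := S.r_dvd
    obtain ⟨m, hm⟩ := S.two_dvd
    have h2 := S.two_le_card
    have := S.r_odd
    have hk2 : k ≤ 2 := Nat.le_of_mul_le_mul_left (by rw [← hk]; omega) S.r_pos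
    interval_cases k <;> omega
  · exact absurd (Subtype.ext (S.cen_comm u.2 v.2)) huv

lemma Hyp.sq_eq_one {c : G} (hc : c ∈ cenA t) : c ^ 2 = 1 := by
  classical
  let E : Set G := insert 1 S.invA
  have hE : E.ncard = Nat.card (cenA t) := by
    rw [Set.ncard_insert_of_notMem (fun h => by have := h.2; rw [orderOf_one] at this; omega)
      (Set.toFinite _), ← Nat.card_coe_set_eq, S.card_eq_succ, Hyp.r]
  have heq : E = (cenA t : Set G) := by
    refine Set.eq_of_subset_of_ncard_le (Set.insert_subset (one_mem _) fun u hu => hu.1) ?_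
      (Set.toFinite _)
    rw [hE, ← Nat.card_coe_set_eq]
    rfl
  have : c ∈ E := heq ▸ hc
  rcases this with rfl | ⟨-, h⟩
  · simp
  · rw [← h, pow_orderOf_eq_one]

lemma Hyp.exists_psl : ∃ (F : Type) (_ : Field F) (_ : Fintype F) (f : ℕ), 2 ≤ f ∧
    Fintype.card F = 2 ^ f ∧ Nonempty (G ≃* Matrix.ProjectiveSpecialLinearGroup (Fin 2) F) := by
  classical
  have := S.simple
  have := Fact.mk Nat.prime_two
  have hA2 : IsPGroup 2 (cenA t) := fun x => ⟨1, Subtype.ext (S.sq_eq_one x.2)⟩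
  obtain ⟨T, hT⟩ := hA2.exists_le_sylow
  have : Nontrivial (T : Subgroup G) :=
    ⟨⟨t, hT S.self_mem⟩, 1, fun e => S.ne_one (congrArg Subtype.val e)⟩
  have hz := T.2.center_nontrivial
  obtain ⟨⟨⟨z, hzT⟩, hzc⟩, hz1⟩ := exists_ne (1 : Subgroup.center (T : Subgroup G))
  have hz1' : z ≠ 1 := fun e => hz1 (Subtype.ext (Subtype.ext e))
  have hzA : z ∈ cenA t := mem_cent_singleton.2
    (congrArg Subtype.val (Subgroup.mem_center_iff.1 hzc ⟨t, hT S.self_mem⟩))
  have hTA : (T : Subgroup G) = cenA t := le_antisymm (fun y hy => by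
    rw [← S.cen_eq hzA hz1']
    exact mem_cent_singleton.2
      (congrArg Subtype.val (Subgroup.mem_center_iff.1 hzc ⟨y, hy⟩)).symm) hT
  have hcardT : Nat.card (T : Subgroup G) = S.r + 1 := by rw [hTA, S.card_eq_succ]
  have hr := S.two_le_r
  have hr1 := S.r_odd
  have hyp : H50.InvolutionCA T := by
    refine ⟨fun hc => ?_, fun hn => ?_, fun u hu => ?_⟩
    · obtain ⟨g, hg⟩ := hc.exists_generator
      have hgA : (g : G) ∈ cenA t := hTA ▸ g.2
      have : orderOf g ≤ 2 := by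
        rw [← Subgroup.orderOf_coe]
        exact orderOf_le_of_pow_eq_one (by norm_num) (S.sq_eq_one hgA)
      rw [orderOf_eq_card_of_forall_mem_zpowers hg, hcardT] at this
      omega
    · rcases hn.eq_bot_or_eq_top with e | e
      · exact S.ne_one (Subgroup.mem_bot.1 (e ▸ hT S.self_mem))
      · exact S.noncomm ⟨⟨fun a b => S.cen_comm (hTA ▸ e ▸ Subgroup.mem_top a)
          (hTA ▸ e ▸ Subgroup.mem_top b)⟩⟩
    · obtain ⟨c, rfl⟩ := isConj_iff.1 (S.isConj_inv hu)
      have hmem : ∀ {y : G}, y ∈ Subgroup.centralizer ({c * t * c⁻¹} : Set G) → c⁻¹ * y * c ∈ cenA t :=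
        fun {y} hy => mem_cent_singleton.2 (by
          have hy' : c * t * c⁻¹ * y = y * (c * t * c⁻¹) := mem_cent_singleton.1 hy
          calc t * (c⁻¹ * y * c) = c⁻¹ * (c * t * c⁻¹ * y) * c := by group
            _ = c⁻¹ * (y * (c * t * c⁻¹)) * c := by rw [hy']
            _ = c⁻¹ * y * c * t := by group)
      refine ⟨⟨⟨fun a b => Subtype.ext ?_⟩⟩, fun y hy => ?_⟩
      · show a.1 * b.1 = b.1 * a.1
        have := congrArg (fun w => c * w * c⁻¹) (S.cen_comm (hmem a.2) (hmem b.2))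
        simpa [mul_assoc] using this
      · have := congrArg (fun w => c * w * c⁻¹) (S.sq_eq_one (hmem hy))
        simpa [pow_two, mul_assoc] using this
  obtain ⟨F, hF, hFF, hFcard, he⟩ := hyp.is_psl_two
  obtain ⟨f, hf⟩ := IsPGroup.iff_card.1 T.2
  refine ⟨F, hF, hFF, f, ?_, by rw [hFcard, hf], he⟩
  by_contra h
  have : f = 0 ∨ f = 1 := by omega
  rw [hcardT] at hf
  rcases this with rfl | rfl <;> norm_num at hf <;> omega

omit S

/-- In characteristic two commuting is transitive in `PSL(2, F)`. -/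
lemma psl_two_ct {F : Type*} [Field F] [Fintype F] [DecidableEq F] {f : ℕ} (hf : f ≠ 0)
    (hF : Fintype.card F = 2 ^ f)
    (a b c : Matrix.ProjectiveSpecialLinearGroup (Fin 2) F) (hb : b ≠ 1) (hab : Commute a b)
    (hbc : Commute b c) : Commute a c := by
  have := Fact.mk Nat.prime_two
  have hchar : CharP F 2 := charP_of_card_eq_prime_pow (by rw [hF]) 
  have hneg : ∀ g : Matrix.SpecialLinearGroup (Fin 2) F, -g = g := fun g =>
    sl2_ext (by simp [sl2_neg, CharTwo.neg_eq]) (by simp [sl2_neg, CharTwo.neg_eq])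
      (by simp [sl2_neg, CharTwo.neg_eq]) (by simp [sl2_neg, CharTwo.neg_eq])
  obtain ⟨a, rfl⟩ := π_surjective a
  obtain ⟨b, rfl⟩ := π_surjective b
  obtain ⟨c, rfl⟩ := π_surjective c
  have key : ∀ g h : Matrix.SpecialLinearGroup (Fin 2) F, Commute (π g) (π h) → g * h = h * g := by
    intro g h e
    rcases π_eq_iff.1 ((map_mul π g h).trans (e.eq.trans (map_mul π h g).symm)) with e' | e'
    · exact e'
    · rw [e', hneg]
  have hns : ¬ IsScal b := fun h => hb (π_eq_one_iff_isScal.2 h)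
  exact (Commute.map (cent_commute hns (mem_cent.2 (key a b hab).symm) (mem_cent.2 (key b c hbc))) π)

end Cfsg.Agent.H6.CT
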